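import Groth.Agent.MeroX.EffCartier
import Groth.Agent.S8914
import Groth.Agent.FlatMor3.AmpleCartier
import Groth.Agent.AssPtX.Noeth
import Groth.Agent.H23.PicInv
import Groth.Agent.KFlatLib.Perfect.LocFree
import Mathlib.RingTheory.Ideal.AssociatedPrime.Finiteness

/-! Effective Cartier divisors supported at one closed point. -/

noncomputable section

set_option linter.style.haveILetI false
set_option linter.unusedSectionVars false
set_option backward.isDefEq.respectTransparency false
set_option backward.isDefEq.respectTransparency.types false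

universe u

open CategoryTheory CategoryTheory.Limits AlgebraicGeometry TopologicalSpace

namespace Groth.Agent.VarDiv

open Groth.Agent

variable {X : Scheme.{u}}

theorem stalk_preimage_eq_top {x : X} {U : X.Opens} (hx : x ∈ U) : X.fromSpecStalk x ⁻¹ᵁ U = ⊤ := by
  refine top_le_iff.1 fun p _ => ?_
  have h : X.fromSpecStalk x p ∈ {y | y ⤳ x} := by
    rw [← Scheme.range_fromSpecStalk]; exact ⟨p, rfl⟩
  exact h.mem_open U.2 hx

/-- The closed subscheme at `x` cut out in the stalk by one element. -/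
def stalkCut (x : X) (t : X.presheaf.stalk x) :
    Spec (CommRingCat.of (X.presheaf.stalk x ⧸ Ideal.span {t})) ⟶ X :=
  Spec.map (CommRingCat.ofHom (Ideal.Quotient.mk (Ideal.span {t}))) ≫ X.fromSpecStalk x

theorem ker_stalkCut [IsNoetherian X] (x : X) (t : X.presheaf.stalk x) (U : X.affineOpens)
    (hx : x ∈ (U : X.Opens)) :
    (stalkCut x t).ker.ideal U = (Ideal.span {t}).comap (X.presheaf.germ U x hx).hom := by
  rw [Scheme.Hom.ker_apply]
  let q := CommRingCat.ofHom (Ideal.Quotient.mk (Ideal.span {t}))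
  have happ : (stalkCut x t).app U = X.presheaf.germ U x hx ≫ q ≫ (Scheme.ΓSpecIso _).inv ≫
      (Spec (CommRingCat.of (X.presheaf.stalk x ⧸ Ideal.span {t}))).presheaf.map
        (homOfLE (le_top : (stalkCut x t) ⁻¹ᵁ (U : X.Opens) ≤ ⊤)).op := by
    show (Spec.map q ≫ X.fromSpecStalk x).app U = _
    rw [Scheme.Hom.comp_app, Scheme.fromSpecStalk_app hx, Category.assoc, Category.assoc]
    erw [(Spec.map q).naturality, ← Scheme.ΓSpecIso_inv_naturality_assoc]
    rfl
  have htop : (stalkCut x t) ⁻¹ᵁ (U : X.Opens) = ⊤ := by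
    show Spec.map q ⁻¹ᵁ (X.fromSpecStalk x ⁻¹ᵁ (U : X.Opens)) = ⊤
    rw [stalk_preimage_eq_top hx]
    rfl
  haveI : IsIso (homOfLE (le_top : (stalkCut x t) ⁻¹ᵁ (U : X.Opens) ≤ ⊤)).op := by
    haveI : IsIso (homOfLE (le_top : (stalkCut x t) ⁻¹ᵁ (U : X.Opens) ≤ ⊤)) :=
      ⟨homOfLE (htop ▸ le_refl _), Subsingleton.elim _ _, Subsingleton.elim _ _⟩
    infer_instance
  let ψ := (Scheme.ΓSpecIso (CommRingCat.of (X.presheaf.stalk x ⧸ Ideal.span {t}))).inv ≫
    (Spec (CommRingCat.of (X.presheaf.stalk x ⧸ Ideal.span {t}))).presheaf.map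
      (homOfLE (le_top : (stalkCut x t) ⁻¹ᵁ (U : X.Opens) ≤ ⊤)).op
  haveI : IsIso ψ := inferInstance
  have hb : Function.Injective ψ.hom := (ConcreteCategory.bijective_of_isIso ψ).1
  ext r
  rw [RingHom.mem_ker, Ideal.mem_comap, happ, ← Ideal.Quotient.eq_zero_iff_mem]
  exact map_eq_zero_iff ψ.hom hb

theorem not_isUnit_zero_dim_le {x : X} {t : X.presheaf.stalk x}
    (hdim : Ring.KrullDimLE 1 (X.presheaf.stalk x)) (ht : t ∈ nonZeroDivisors (X.presheaf.stalk x))
    {P : Ideal (X.presheaf.stalk x)} [P.IsPrime] (htP : t ∈ P) :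
    P = IsLocalRing.maximalIdeal (X.presheaf.stalk x) := by
  rcases Ring.krullDimLE_one_iff.1 hdim P inferInstance with h | h
  · exact absurd ht fun ht => (Ideal.disjoint_nonZeroDivisors_of_mem_minimalPrimes h).notMem_of_mem_left htP ht
  · exact IsLocalRing.eq_maximalIdeal h

theorem range_stalkCut {x : X} {t : X.presheaf.stalk x}
    (hdim : Ring.KrullDimLE 1 (X.presheaf.stalk x)) (ht : t ∈ nonZeroDivisors (X.presheaf.stalk x))
    (htu : ¬ IsUnit t) : Set.range (stalkCut x t) = {x} := by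
  have hne : Ideal.span {t} ≠ ⊤ := fun h => htu (Ideal.span_singleton_eq_top.1 h)
  have hp : ∀ p, X.fromSpecStalk x
      (Spec.map (CommRingCat.ofHom (Ideal.Quotient.mk (Ideal.span {t}))) p) = x := fun p => by
    have h : Spec.map (CommRingCat.ofHom (Ideal.Quotient.mk (Ideal.span {t}))) p =
        IsLocalRing.closedPoint (X.presheaf.stalk x) := by
      refine PrimeSpectrum.ext (not_isUnit_zero_dim_le (P := _) hdim ht ?_)
      show Ideal.Quotient.mk (Ideal.span {t}) t ∈ p.asIdeal
      rw [Ideal.Quotient.eq_zero_iff_mem.2 (Ideal.mem_span_singleton_self t)]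
      exact zero_mem _
    exact (congrArg (X.fromSpecStalk x) h).trans Scheme.fromSpecStalk_closedPoint
  ext y
  constructor
  · rintro ⟨p, rfl⟩
    exact hp p
  · intro hy
    haveI : Nontrivial (X.presheaf.stalk x ⧸ Ideal.span {t}) := Ideal.Quotient.nontrivial_iff.2 hne
    obtain ⟨p⟩ : Nonempty (PrimeSpectrum (X.presheaf.stalk x ⧸ Ideal.span {t})) := inferInstance
    exact ⟨p, (hp p).trans (Set.mem_singleton_iff.1 hy).symm⟩

/-- An effective Cartier ideal with support a given closed point. -/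
theorem exists_effCartier_point [IsNoetherian X] {x : X} (hx : IsClosed ({x} : Set X))
    (hdim : Ring.KrullDimLE 1 (X.presheaf.stalk x)) {t : X.presheaf.stalk x}
    (ht : t ∈ nonZeroDivisors (X.presheaf.stalk x)) (htu : ¬ IsUnit t) :
    ∃ I : X.IdealSheafData, BlowUp.IsEffCartierIdeal I ∧ (I.support : Set X) = {x} := by
  have hsupp : ((stalkCut x t).ker.support : Set X) = {x} := by
    rw [Scheme.Hom.support_ker]
    show closure (Set.range (stalkCut x t)) = _
    rw [range_stalkCut hdim ht htu, hx.closure_eq]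
  refine ⟨(stalkCut x t).ker, MeroX.isEffCartier_of_stalk _ fun y hy V hyV => ?_, hsupp⟩
  obtain rfl : y = x := hsupp.le hy
  refine ⟨t, ht, ?_⟩
  rw [ker_stalkCut y t V hyV]
  letI := X.presheaf.algebra_section_stalk ⟨y, hyV⟩
  haveI := V.2.isLocalization_stalk ⟨y, hyV⟩
  exact IsLocalization.map_comap (V.2.primeIdealOf ⟨y, hyV⟩).asIdeal.primeCompl
    (X.presheaf.stalk y) (Ideal.span {t})

/-- An invertible module with a section vanishing exactly at a given closed point. -/
theorem exists_invertible_point [IsNoetherian X] {x : X} (hx : IsClosed ({x} : Set X))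
    (hdim : Ring.KrullDimLE 1 (X.presheaf.stalk x)) {t : X.presheaf.stalk x}
    (ht : t ∈ nonZeroDivisors (X.presheaf.stalk x)) (htu : ¬ IsUnit t) :
    ∃ (L : X.Modules) (s : Coh.structureModule X ⟶ L), PicF.IsInvertible L ∧
      (CohB1.genLocus L s : Set X) = {x}ᶜ := by
  obtain ⟨I, hI, hs⟩ := exists_effCartier_point hx hdim ht htu
  obtain ⟨L, s, hL, hloc⟩ := FlatMor3.exists_canonical_section hI
  refine ⟨L, InvX.ofSect s, hL, ?_⟩
  rw [AmpleX.genLocus_eq_locus, InvX.one_ofSect]
  rw [hloc]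
  show (I.support : Set X)ᶜ = {x}ᶜ
  rw [hs]

/-- A non-associated point has a regular non-unit. -/
theorem exists_regular_nonunit [IsLocallyNoetherian X] {x : X}
    (hx : ¬ Curv2.IsAssPoint (Coh.structureModule X) x) :
    ∃ t : X.presheaf.stalk x, t ∈ nonZeroDivisors (X.presheaf.stalk x) ∧ ¬ IsUnit t := by
  by_contra! hc
  apply hx
  have hsub : (IsLocalRing.maximalIdeal (X.presheaf.stalk x) : Set (X.presheaf.stalk x)) ⊆
      ⋃ P ∈ associatedPrimes (X.presheaf.stalk x) (X.presheaf.stalk x), (P : Set (X.presheaf.stalk x)) := by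
    rw [biUnion_associatedPrimes_eq_compl_nonZeroDivisors]
    intro a ha hreg
    exact ha (hc a hreg)
  obtain ⟨P, hP, hle⟩ := (Ideal.subset_union_prime_finite
    (associatedPrimes.finite (X.presheaf.stalk x) (X.presheaf.stalk x)) (f := fun P => P)
    ⊤ ⊤ fun P hP _ _ => hP.1).1 hsub
  have heq : P = IsLocalRing.maximalIdeal (X.presheaf.stalk x) :=
    ((IsLocalRing.maximalIdeal.isMaximal _).eq_of_le hP.1.ne_top hle).symm
  subst heq
  exact (KFlatLib.stalkUnitEquiv (X := X) x).isAssociatedPrime_iff.1 hP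

end Groth.Agent.VarDiv
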